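import Cfsg.Agent.Lib.Steiner.Basic

/-! Counting blocks by their exact trace on a set. -/

namespace Cfsg.Lib.Steiner

open Cfsg Finset

variable {α : Type*} [Fintype α] [DecidableEq α] {t k : ℕ} {B : Set (Finset α)}

theorem sum_choose_trace (hB : IsSteinerSystem t k B) (Y : Finset α) {s : ℕ} (hs : s ≤ t) {l : ℕ}
    (hl : l * (k - s).choose (t - s) = (Fintype.card α - s).choose (t - s)) (hpos : t ≤ k) :
    ∑ c ∈ blocks B, (c ∩ Y).card.choose s = Y.card.choose s * l := by
  have h1 : ∀ c ∈ blocks B, (c ∩ Y).card.choose s = ((Y.powersetCard s).filter fun S => S ⊆ c).card := by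
    intro c _
    rw [← card_powersetCard]
    congr 1
    ext S; simp only [mem_powersetCard, mem_filter, subset_inter_iff]; tauto
  rw [Finset.sum_congr rfl h1]
  simp only [card_filter]
  rw [Finset.sum_comm, Finset.sum_const_nat (m := l), card_powersetCard]
  intro S hS
  rw [mem_powersetCard] at hS
  rw [← card_filter]
  have h := through_mul hB S (hS.2 ▸ hs)
  rw [hS.2, ← hl] at h
  exact Nat.eq_of_mul_eq_mul_right (Nat.choose_pos (by omega)) h

/-- The number of blocks meeting `Y` in exactly `i` points. -/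
noncomputable def traceNum (B : Set (Finset α)) (Y : Finset α) (i : ℕ) : ℕ :=
  ((blocks B).filter fun c => (c ∩ Y).card = i).card

theorem trace_equation (hB : IsSteinerSystem t k B) (Y : Finset α) {s : ℕ} (hs : s ≤ t) {l : ℕ}
    (hl : l * (k - s).choose (t - s) = (Fintype.card α - s).choose (t - s)) (hpos : t ≤ k) :
    ∑ i ∈ range (Y.card + 1), traceNum B Y i * i.choose s = Y.card.choose s * l := by
  rw [← sum_choose_trace hB Y hs hl hpos,
    ← sum_fiberwise_of_maps_to (t := range (Y.card + 1)) (g := fun c : Finset α => (c ∩ Y).card)]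
  · refine sum_congr rfl fun i _ => (sum_const_nat fun c hc => ?_).symm
    rw [(mem_filter.1 hc).2]
  · intro c _
    exact mem_range.2 (Nat.lt_succ_of_le (card_le_card inter_subset_right))

/-- Blocks other than `b` meeting it exactly in `s`. -/
noncomputable def exact' (B : Set (Finset α)) (b s : Finset α) : Finset (Finset α) :=
  (others B b).filter fun c => b ∩ c = s

theorem ncard_exact {b s : Finset α} (hsb : s.card < b.card) :
    {c : Finset α | c ∈ B ∧ b ∩ c = s}.ncard = (exact' B b s).card := by
  rw [← Set.ncard_coe_finset]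
  congr 1
  ext c
  simp only [exact', Set.mem_ofPred_eq, coe_filter, others, mem_erase, mem_blocks]
  constructor
  · rintro ⟨hc, he⟩
    refine ⟨⟨fun h => ?_, hc⟩, he⟩
    rw [h, inter_self] at he
    rw [he] at hsb
    omega
  · rintro ⟨⟨-, hc⟩, he⟩; exact ⟨hc, he⟩

theorem sum_exact (hB : IsSteinerSystem t k B) {b s : Finset α} (hb : b ∈ B) (hsb : s ⊆ b)
    (hs : s.card ≤ t) {l : ℕ}
    (hl : l * (k - s.card).choose (t - s.card) = (Fintype.card α - s.card).choose (t - s.card))
    (hpos : t ≤ k) :
    ∑ i ∈ Ico s.card t, ∑ S ∈ (b.powersetCard i).filter (fun S => s ⊆ S), (exact' B b S).card = l - 1 := by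
  have hcard : ((others B b).filter fun c => s ⊆ c).card = l - 1 := by
    rw [others, filter_erase, card_erase_of_mem (by simp [hb, hsb])]
    have h := through_mul hB s hs
    rw [← hl] at h
    rw [Nat.eq_of_mul_eq_mul_right (Nat.choose_pos (by omega)) h]
  rw [← hcard, ← card_eq_sum_card_fiberwise (f := fun c => (b ∩ c).card) (t := Ico s.card t)
    (s := (others B b).filter fun c => s ⊆ c) (fun c hc => ?_) |>.symm]
  · refine sum_congr rfl fun i _ => ?_
    rw [card_eq_sum_card_fiberwise (f := fun c => b ∩ c) (t := (b.powersetCard i).filter (fun S => s ⊆ S))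
      (fun c hc => ?_)]
    · refine sum_congr rfl fun S hS => ?_
      congr 1
      ext c
      simp only [exact', mem_filter, mem_powersetCard] at hS ⊢
      constructor
      · rintro ⟨hc, rfl⟩
        exact ⟨⟨⟨hc, hS.2.trans inter_subset_right⟩, hS.1.2⟩, rfl⟩
      · rintro ⟨⟨⟨hc, -⟩, -⟩, he⟩; exact ⟨hc, he⟩
    · simp only [coe_filter, Set.mem_ofPred_eq, mem_filter, mem_powersetCard] at hc ⊢
      exact ⟨⟨inter_subset_left, hc.2⟩, subset_inter hsb hc.1.2⟩
  · simp only [coe_filter, others, mem_erase, mem_blocks, Set.mem_ofPred_eq, coe_Ico, Set.mem_Ico] at hc ⊢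
    refine ⟨card_le_card (subset_inter hsb hc.2), ?_⟩
    by_contra h
    exact hc.1.1 (eq_of_le_inter hB hb hc.1.2 (not_lt.1 h)).symm

end Cfsg.Lib.Steiner
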