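import Mathlib
import Cfsg.Prelude.Def_Sporadic_a

/-! Counting in Steiner systems. -/

namespace Cfsg.Lib.Steiner

open Cfsg Finset

variable {α : Type*} [Fintype α] [DecidableEq α] {t k : ℕ} {B : Set (Finset α)}

/-- The blocks as a finset. -/
noncomputable def blocks (B : Set (Finset α)) : Finset (Finset α) := (Set.toFinite B).toFinset

@[simp] theorem mem_blocks {b : Finset α} : b ∈ blocks B ↔ b ∈ B := Set.Finite.mem_toFinset _

theorem ncard_eq_blocks (B : Set (Finset α)) : B.ncard = (blocks B).card :=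
  Set.ncard_eq_toFinset_card _ _

theorem card_supersets (U S : Finset α) (hSU : S ⊆ U) {n : ℕ} (hn : S.card ≤ n) :
    ((U.powersetCard n).filter fun T => S ⊆ T).card = (U.card - S.card).choose (n - S.card) := by
  rw [← Finset.card_sdiff_of_subset hSU, ← Finset.card_powersetCard]
  symm
  refine Finset.card_bij (fun R _ => R ∪ S) ?_ ?_ ?_
  · intro R hR
    rw [mem_powersetCard] at hR
    obtain ⟨hR1, hR2⟩ := hR
    refine mem_filter.2 ⟨mem_powersetCard.2 ⟨union_subset (hR1.trans sdiff_subset) hSU, ?_⟩,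
      subset_union_right⟩
    rw [card_union_of_disjoint (disjoint_left.2 fun x hx => (mem_sdiff.1 (hR1 hx)).2), hR2]
    omega
  · intro R hR R' hR' h
    rw [mem_powersetCard] at hR hR'
    have hd : ∀ {X}, X ⊆ U \ S → (X ∪ S) \ S = X := fun hX => by
      ext x; simp only [mem_sdiff, mem_union]
      exact ⟨fun h => h.1.resolve_right h.2, fun h => ⟨Or.inl h, (mem_sdiff.1 (hX h)).2⟩⟩
    rw [← hd hR.1, h, hd hR'.1]
  · intro T hT
    obtain ⟨hT1, hT2⟩ := mem_filter.1 hT
    rw [mem_powersetCard] at hT1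
    refine ⟨T \ S, mem_powersetCard.2 ⟨sdiff_subset_sdiff hT1.1 subset_rfl, ?_⟩,
      sdiff_union_of_subset hT2⟩
    rw [card_sdiff_of_subset hT2, hT1.2]

theorem card_of_mem (hB : IsSteinerSystem t k B) {b : Finset α} (hb : b ∈ B) : b.card = k := hB.1 b hb

theorem eq_of_le_inter (hB : IsSteinerSystem t k B) {b c : Finset α} (hb : b ∈ B) (hc : c ∈ B)
    (h : t ≤ (b ∩ c).card) : b = c := by
  obtain ⟨T, hT, hTc⟩ := exists_subset_card_eq h
  exact (hB.2 T hTc).unique ⟨hb, hT.trans inter_subset_left⟩ ⟨hc, hT.trans inter_subset_right⟩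

/-- The number of blocks through a set of at most `t` points. -/
theorem through_mul (hB : IsSteinerSystem t k B) (S : Finset α) (hS : S.card ≤ t) :
    ((blocks B).filter fun b => S ⊆ b).card * (k - S.card).choose (t - S.card) =
      (Fintype.card α - S.card).choose (t - S.card) := by
  rw [← card_univ, ← card_supersets univ S (subset_univ S) hS]
  have hdisj : (((blocks B).filter fun b => S ⊆ b : Finset _) : Set (Finset α)).PairwiseDisjoint
      fun b => (b.powersetCard t).filter fun T => S ⊆ T := by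
    intro b hb c hc hne
    simp only [coe_filter, mem_blocks, Set.mem_ofPred_eq] at hb hc
    rw [Function.onFun, disjoint_left]
    intro T hT hT'
    simp only [mem_filter, mem_powersetCard] at hT hT'
    exact hne ((hB.2 T hT.1.2).unique ⟨hb.1, hT.1.1⟩ ⟨hc.1, hT'.1.1⟩)
  have h : (univ.powersetCard t).filter (fun T => S ⊆ T) =
      ((blocks B).filter fun b => S ⊆ b).biUnion fun b => (b.powersetCard t).filter fun T => S ⊆ T := by
    ext T
    simp only [mem_filter, mem_powersetCard, subset_univ, true_and, mem_biUnion, mem_blocks]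
    constructor
    · rintro ⟨hT, hST⟩
      obtain ⟨b, ⟨hb, hTb⟩, -⟩ := hB.2 T hT
      exact ⟨b, ⟨hb, hST.trans hTb⟩, ⟨hTb, hT⟩, hST⟩
    · rintro ⟨b, -, ⟨-, hT⟩, hST⟩
      exact ⟨hT, hST⟩
  rw [h, card_biUnion hdisj, sum_const_nat]
  intro b hb
  simp only [mem_filter, mem_blocks] at hb
  rw [card_supersets b S hb.2 hS, hB.1 b hb.1]

/-- The blocks other than `b`. -/
noncomputable def others (B : Set (Finset α)) (b : Finset α) : Finset (Finset α) := (blocks B).erase b

/-- The number of blocks other than `b` meeting it in exactly `i` points. -/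
noncomputable def meetNum (B : Set (Finset α)) (b : Finset α) (i : ℕ) : ℕ :=
  ((others B b).filter fun c => (b ∩ c).card = i).card

theorem sum_choose_inter (hB : IsSteinerSystem t k B) {b : Finset α} (hb : b ∈ B) {s : ℕ}
    (hs : s ≤ t) {l : ℕ} (hl : l * (k - s).choose (t - s) = (Fintype.card α - s).choose (t - s))
    (hpos : t ≤ k) :
    ∑ c ∈ others B b, (b ∩ c).card.choose s = k.choose s * (l - 1) := by
  have h1 : ∀ c ∈ others B b, (b ∩ c).card.choose s =
      ((b.powersetCard s).filter fun S => S ⊆ c).card := by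
    intro c _
    rw [← card_powersetCard]
    congr 1
    ext S; simp only [mem_powersetCard, mem_filter, subset_inter_iff]; tauto
  rw [Finset.sum_congr rfl h1]
  simp only [card_filter]
  rw [Finset.sum_comm, Finset.sum_const_nat (m := l - 1), card_powersetCard, hB.1 b hb]
  intro S hS
  rw [mem_powersetCard] at hS
  rw [← card_filter, others, filter_erase, card_erase_of_mem (by simp [hb, hS.1])]
  have h := through_mul hB S (hS.2 ▸ hs)
  rw [hS.2, ← hl] at h
  rw [Nat.eq_of_mul_eq_mul_right (Nat.choose_pos (by omega)) h]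

theorem sum_by_meet (hB : IsSteinerSystem t k B) {b : Finset α} (hb : b ∈ B) (f : ℕ → ℕ) :
    ∑ c ∈ others B b, f (b ∩ c).card = ∑ i ∈ range t, meetNum B b i * f i := by
  rw [← sum_fiberwise_of_maps_to (t := range t) (g := fun c => (b ∩ c).card)]
  · refine sum_congr rfl fun i _ => sum_const_nat fun c hc => ?_
    rw [(mem_filter.1 hc).2]
  · intro c hc
    simp only [others, mem_erase, mem_blocks] at hc
    rw [mem_range]
    by_contra h
    exact hc.1 (eq_of_le_inter hB hb hc.2 (not_lt.1 h)).symm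

/-- The equations determining the intersection numbers. -/
theorem meet_equation (hB : IsSteinerSystem t k B) {b : Finset α} (hb : b ∈ B) {s : ℕ}
    (hs : s ≤ t) (l : ℕ) (hl : l * (k - s).choose (t - s) = (Fintype.card α - s).choose (t - s))
    (hpos : t ≤ k) :
    ∑ i ∈ range t, meetNum B b i * i.choose s = k.choose s * (l - 1) := by
  rw [← sum_by_meet hB hb (fun i => i.choose s), sum_choose_inter hB hb hs hl hpos]

theorem meetNum_pos {b c : Finset α} (hc : c ∈ B) (hne : b ≠ c) :
    0 < meetNum B b (b ∩ c).card :=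
  card_pos.2 ⟨c, mem_filter.2 ⟨mem_erase.2 ⟨hne.symm, mem_blocks.2 hc⟩, rfl⟩⟩

theorem ncard_disjoint {b : Finset α} (hbc : b.card ≠ 0) :
    {c : Finset α | c ∈ B ∧ Disjoint b c}.ncard = meetNum B b 0 := by
  rw [meetNum, ← Set.ncard_coe_finset]
  congr 1
  ext c
  simp only [Set.mem_ofPred_eq, coe_filter, others, mem_erase, mem_blocks, card_eq_zero,
    disjoint_iff_inter_eq_empty]
  constructor
  · rintro ⟨hc, hd⟩
    refine ⟨⟨fun h => hbc ?_, hc⟩, hd⟩
    subst h; rw [inter_self] at hd; simp [hd]
  · rintro ⟨⟨-, hc⟩, hd⟩; exact ⟨hc, hd⟩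

end Cfsg.Lib.Steiner
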